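import Cfsg.Agent.H378.TwRows

/-!
# Non-adjacency in `²E₆(q)`: primes of `q⁴ + 1` and of `q⁴ - q² + 1` (helper234)

* `dim_contra` : `Φ_m(w) x = 0`, `Φ_m'(w) x' = 0`, `x, x' ≠ 0`, `m ≠ m'`, then `φ(m) + φ(m') ≤ l`;
* `na_8_12` : in `²E₆(q)` an element of prime order `r ∣ q⁴ + 1`, not commuting with elements of order `p`, does not
  commute with an element of prime order `s ∣ q⁴ - q² + 1`.
-/

set_option autoImplicit false

namespace Cfsg.Agent.H234.UF.TwE6

open Polynomial CoxeterSystem Cfsg Cfsg.Lie Cfsg.Lie.ChevalleyDatum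
open Cfsg.Agent.ChevalleyStructure Cfsg.Agent.ChevalleyStructure.CoxeterGeomTypes Cfsg.Agent.Tits.Roots
open Cfsg.Agent.Nodes Cfsg.Agent.Nodes.RGDChev Cfsg.Agent.KFacts.RgdChevCoord Cfsg.Agent.BpExc.TorChev
open Cfsg.Agent.BpExc.TowChev
open Cfsg.Agent.H378 Cfsg.Agent.H378.TorDual Cfsg.Agent.H378.LatCyc Cfsg.Agent.H378.LatCodim Cfsg.Agent.H378.RegTw

universe u

/-- two cyclotomic subspaces -/
theorem dim_contra {l : ℕ} {w : Module.End ℤ (Fin l → ℤ)} {m m' : ℕ} (hm : 0 < m) (hm' : 0 < m') (hne : m ≠ m')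
    (hl : l < m.totient + m'.totient) {x x' : Fin l → ℤ} (hx : x ≠ 0) (h : aeval w (cyclotomic m ℤ) x = 0)
    (hx' : x' ≠ 0) (h' : aeval w (cyclotomic m' ℤ) x' = 0) : False := by
  have hv : vq x ≠ 0 := fun h0 => hx (vq_eq_zero.1 h0)
  have hv' : vq x' ≠ 0 := fun h0 => hx' (vq_eq_zero.1 h0)
  have hq := aeval_vq h
  have hq' := aeval_vq h'
  have hi := indepQ (T := toQ w) hm hv hq
  have hi' := indepQ (T := toQ w) hm' hv' hq'
  rw [Fintype.linearIndependent_iff] at hi hi'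
  have hco : IsCoprime (cyclotomic m ℚ) (cyclotomic m' ℚ) := cyclotomic.isCoprime_rat hne
  have key : LinearIndependent ℚ (fun i : Fin m.totient ⊕ Fin m'.totient =>
      Sum.elim (fun i : Fin m.totient => (toQ w ^ (i : ℕ)) (vq x)) (fun i : Fin m'.totient => (toQ w ^ (i : ℕ)) (vq x')) i) := by
    rw [Fintype.linearIndependent_iff]
    intro c hc
    rw [Fintype.sum_sum_type] at hc
    simp only [Sum.elim_inl, Sum.elim_inr] at hc
    rw [← aeval_pol, ← aeval_pol] at hc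
    set P := pol fun i : Fin m.totient => c (Sum.inl i)
    set P' := pol fun i : Fin m'.totient => c (Sum.inr i)
    have h1 : aeval (toQ w) (cyclotomic m ℚ) (aeval (toQ w) P (vq x)) = 0 := by
      rw [← Module.End.mul_apply, ← map_mul, mul_comm, map_mul, Module.End.mul_apply, hq, map_zero]
    have h2 : aeval (toQ w) (cyclotomic m' ℚ) (aeval (toQ w) P (vq x)) = 0 := by
      rw [eq_neg_of_add_eq_zero_left hc, map_neg, ← Module.End.mul_apply, ← map_mul, mul_comm, map_mul,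
        Module.End.mul_apply, hq', map_zero, neg_zero]
    have h3 : aeval (toQ w) P (vq x) = 0 := eq_zero_of_coprime hco h1 h2
    have h4 : aeval (toQ w) P' (vq x') = 0 := by
      rw [h3, zero_add] at hc
      exact hc
    have e1 : ∀ i, c (Sum.inl i) = 0 := hi (fun i => c (Sum.inl i)) (by rw [← aeval_pol]; exact h3)
    have e2 : ∀ i, c (Sum.inr i) = 0 := hi' (fun i => c (Sum.inr i)) (by rw [← aeval_pol]; exact h4)
    rintro (i | i)
    · exact e1 i
    · exact e2 i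
  have h2 := key.fintype_card_le_finrank
  rw [Fintype.card_sum, Fintype.card_fin, Fintype.card_fin, Module.finrank_fin_fun] at h2
  omega

section E

variable {K : Type u} [Field K] [Fintype K] {q : ℕ} (hq : IsPrimePow q) (hK : Fintype.card K = q ^ 2)

include hq hK

/-- **primes of `q⁴ + 1` and `q⁴ - q² + 1`** -/
theorem na_8_12 {v : ℕ} (hv : v.Prime) (hvq : v ∣ q) {x y : ↥(twistedE6 K q)} (hr : (orderOf x).Prime)
    (hs : (orderOf y).Prime) (hxv : orderOf x ≠ v) (h7x : 7 < orderOf x) (h7y : 7 < orderOf y)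
    (h8 : ((orderOf x : ℕ) : ℤ) ∣ (q : ℤ) ^ 4 + 1) (h12 : ((orderOf y : ℕ) : ℤ) ∣ (q : ℤ) ^ 4 - (q : ℤ) ^ 2 + 1)
    (hc : Commute x y) (hn : ¬ ∃ w : ↥(twistedE6 K q), orderOf w = v ∧ Commute w x) : False := by
  have hfin := H493.PGE6.finW
  obtain ⟨k, _, _, ι, p, hpF, _, e, hk, hka, he, hqe⟩ := TwRows.exists_closure' hq hK
  have hvp : v = p := by
    rw [hqe] at hvq
    exact (Nat.prime_dvd_prime_iff_eq hv hpF.out).1 (hv.dvd_of_dvd_pow hvq)
  subst hvp
  have hpd : ¬ v ∣ Nat.gcd 3 (q + 1) := by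
    intro h3
    have h4 : v ∣ q + 1 := h3.trans (Nat.gcd_dvd_right _ _)
    exact hv.one_lt.ne' (Nat.dvd_one.1 ((Nat.dvd_add_right hvq).1 h4))
  have hℓW : ¬ orderOf x ∣ Nat.card CoxeterMatrix.E₆.Group := fun h => by
    have := LatCodim.le_of_dvd_card CoxeterMatrix.E₆.toCoxeterSystem RGDTwE6.hp.isCartan hr h
    omega
  have hx1 : x ≠ 1 := by
    rintro rfl
    rw [orderOf_one] at h7x
    omega
  have he0 := H493.TwE6Alg.embT_injective ι q
  have hfix := fun a => H493.TwE6Alg.tau_embT ι hqe hq hK a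
  have hxℓ : x ^ orderOf x = 1 := pow_orderOf_eq_one x
  obtain ⟨g', χ, hg', hE, h1, h2⟩ := pair_core RGDTwE6.hp CoxeterMatrix.E₆.toCoxeterSystem hk hka he
    H493.TwE6Alg.isFrob_tau (H493.TwE6Alg.fr_tau CoxeterMatrix.E₆.toCoxeterSystem) (hfix x) hr hxv
    (by rw [← map_pow, hxℓ, map_one]) (fun h => hx1 (he0 (h.trans (map_one _).symm))) hℓW
  by_cases hroot : ∃ a, IsRoot CoxeterMatrix.E₆.toCoxeterSystem RGDTwE6.hp.isCartan a ∧ χ (Multiplicative.ofAdd a) = 1
  · obtain ⟨w, hw, hwc, ho⟩ := h1 hroot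
    exact hn (exists_desc he0 (fun y hy => H493.TwE6Alg.tau_pow ι hqe hq hK hy) hpd hw hwc ho)
  · push Not at hroot
    obtain ⟨φ, hφ⟩ := h2 hroot
    obtain ⟨ψ, hψ⟩ := exists_cent he0 hfix hφ
    obtain ⟨N, hN, hwN⟩ := exists_pow_one (cs := CoxeterMatrix.E₆.toCoxeterSystem) (h := RGDTwE6.hp.isCartan) hg'
    have key : ∀ {m : ℕ}, 0 < m → ∀ z : ↥(Subgroup.centralizer {x}), (orderOf z).Prime → 7 < orderOf z →
        ¬ orderOf z ∣ m → ((orderOf z : ℕ) : ℤ) ∣ (cyclotomic m ℤ).eval (q : ℤ) →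
        ∃ b : Fin 6 → ℤ, b ≠ 0 ∧ aeval (endo g') (cyclotomic m ℤ) b = 0 := by
      intro m hm z hz h7 hzm hd
      obtain ⟨n, hn0, hwn, hzn⟩ := order_coprime hN hwN hz (by omega)
      have hz1 : (ψ z).1 ≠ 1 := by
        intro h
        have h3 : z = 1 := hψ (by rw [map_one]; exact Subtype.ext h)
        rw [h3, orderOf_one] at h7
        omega
      have h9 : (cyclotomic m ℤ).eval (q : ℤ) = (cyclotomic m ℤ).eval ((v ^ e : ℕ) : ℤ) :=
        congrArg (fun n : ℕ => (cyclotomic m ℤ).eval (n : ℤ)) hqe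
      have hzℓ : (ψ z).1 ^ orderOf z = 1 := by
        have h3 : ψ z ^ orderOf z = 1 := by rw [← map_pow, pow_orderOf_eq_one, map_one]
        exact congrArg Subtype.val h3
      obtain ⟨Q, -, b, hb, hb1⟩ := exists_ker hm hn0 hwn hz hzn hzm (h9 ▸ hd) (ψ z).2 hz1 hzℓ
      refine ⟨aeval (endo g') Q b, ?_, hb⟩
      intro h0
      rw [h0, ofAdd_zero, map_one] at hb1
      exact hb1 rfl
    have hxm : x ∈ Subgroup.centralizer {x} := Subgroup.mem_centralizer_singleton_iff.2 rfl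
    have hym : y ∈ Subgroup.centralizer {x} := Subgroup.mem_centralizer_singleton_iff.2 hc.symm
    have ho1 : orderOf (⟨x, hxm⟩ : ↥(Subgroup.centralizer {x})) = orderOf x := Subgroup.orderOf_mk _ _
    have ho2 : orderOf (⟨y, hym⟩ : ↥(Subgroup.centralizer {x})) = orderOf y := Subgroup.orderOf_mk _ _
    have hnd : ∀ {s m : ℕ}, s.Prime → 7 < s → m = 8 ∨ m = 12 → ¬ s ∣ m := by
      intro s m hs h7 hm hd
      have h4 : s ∣ 2 * 2 * 2 ∨ s ∣ 2 * 2 * 3 := by
        rcases hm with rfl | rfl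
        · exact Or.inl hd
        · exact Or.inr hd
      rcases h4 with h4 | h4
      · rcases (Nat.Prime.dvd_mul hs).1 h4 with h5 | h5
        · rcases (Nat.Prime.dvd_mul hs).1 h5 with h6 | h6 <;> · have := Nat.le_of_dvd (by norm_num) h6; omega
        · have := Nat.le_of_dvd (by norm_num) h5; omega
      · rcases (Nat.Prime.dvd_mul hs).1 h4 with h5 | h5
        · rcases (Nat.Prime.dvd_mul hs).1 h5 with h6 | h6 <;> · have := Nat.le_of_dvd (by norm_num) h6; omega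
        · have := Nat.le_of_dvd (by norm_num) h5; omega
    have e8 : (cyclotomic 8 ℤ).eval (q : ℤ) = (q : ℤ) ^ 4 + 1 := by
      have h := Polynomial.cyclotomic_prime_pow_eq_geom_sum (R := ℤ) (n := 2) Nat.prime_two
      rw [show 2 ^ (2 + 1) = 8 from rfl] at h
      rw [h]
      simp [Finset.sum_range_succ]
      ring
    obtain ⟨b, hb0, hb⟩ := key (m := 8) (by norm_num) ⟨x, hxm⟩ (by rw [ho1]; exact hr) (by rw [ho1]; exact h7x)
      (by rw [ho1]; exact hnd hr h7x (Or.inl rfl)) (by rw [ho1, e8]; exact h8)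
    obtain ⟨b', hb0', hb'⟩ := key (m := 12) (by norm_num) ⟨y, hym⟩ (by rw [ho2]; exact hs) (by rw [ho2]; exact h7y)
      (by rw [ho2]; exact hnd hs h7y (Or.inr rfl)) (by rw [ho2, TwRows.eval_cyc12]; exact h12)
    exact dim_contra (m := 8) (m' := 12) (by norm_num) (by norm_num) (by norm_num) (by decide) hb0 hb hb0' hb'

end E

end Cfsg.Agent.H234.UF.TwE6
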