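import Cfsg.Agent.H234.UF.TwE6Na
import Cfsg.Agent.H234.UF.TwE6Num
import Cfsg.Agent.H366.IsoE6T
import Cfsg.Agent.H77.E4Cls
import Cfsg.Agent.H945.UF.PairU
import Cfsg.Agent.H945.UF.Tools

/-!
# S3461, the row `²E₆(u)` (helper234, task 2676 of helper945)

* `cls` : a prime divisor of the order, `≠ 2`, not adjacent to 2, divides `Φ₁₈`, `Φ₁₂` or (`u` even) `Φ₈`;
* `ex18`, `ex12`, `ex8`, `ex10` : elements of orders `Φ₁₈/g`, `Φ₆Φ₁₂/g`, `Φ₈(u² - 1)/g`, `Φ₁₀/(5, u + 1)`;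
* `row_2E6`.
-/

set_option autoImplicit false
set_option linter.unusedSectionVars false

namespace Cfsg.Agent.H234.UF.TwE6

open CoxeterSystem Cfsg Cfsg.Lie Cfsg.Lie.ChevalleyDatum Cfsg.Agent.H129 Cfsg.Agent.H129.WData
open Cfsg.Agent.ChevalleyStructure Cfsg.Agent.ChevalleyStructure.CoxeterGeom
  Cfsg.Agent.ChevalleyStructure.CoxeterGeomTypes
open Cfsg.Agent.Tits.Roots Cfsg.Agent.Nodes Cfsg.Agent.Nodes.Reps Cfsg.Agent.Nodes.RGDChev
  Cfsg.Agent.H129.TorusUntw Cfsg.Agent.BpExc.TowChev Cfsg.Agent.BpExc.Tow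
open Cfsg.Agent.H493.PGTorus Cfsg.Agent.H493.PGCyc Cfsg.Agent.H493.PGE6T
open Cfsg.Agent.H378 Cfsg.Agent.H378.TwAdj Cfsg.Agent.H378.TwRows Cfsg.Agent.H378.ExcAdj
open Cfsg.Agent.H77.E4Poly Cfsg.Agent.H77.E4Cls Cfsg.Agent.H945.UF

universe u

theorem eigC_1 : EigOK (fun i j => H493.PGE6T.ThC j i) c1 VB_1 ![0, 1, 0, 0, 0, 0] := by decide +kernel

/-- coefficients of a functional, cyclotomic polynomial 1 -/
def VD_1 : Fin 1 → Fin 6 → ℤ := ![![0, 1, 0, 0, 0, 0]]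

theorem eigD_1 : EigOK (fun i j => H493.PGE6T.ThD j i) c1 VD_1 ![0, 1, 0, 0, 0, 0] := by decide +kernel

/-- `(u⁴ + 1)(u² - 1)` -/
def k81 : Fin (5 + 1) → ℤ := ![-1, 0, 1, 0, -1, 0]

def V81 : Fin (5 + 1) → Fin 6 → ℤ := ![![0, 1, 0, -1, 1, -1], ![-1, 0, 0, 1, -1, 0], ![0, -2, 0, 1, 0, 0],
  ![1, 1, -1, -1, 1, 0], ![0, 1, 0, 0, -1, 0], ![-1, -1, 1, 0, 0, 0]]

def U81 : Fin 6 → ℤ := ![0, 0, 0, 0, 0, -1]

theorem eig81 : EigOK (fun i j => H493.PGE6T.ThE j i) k81 V81 U81 := by decide +kernel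

theorem pv81 (q : ℤ) : pv k81 q = (q ^ 4 + 1) * (q ^ 2 - 1) := by
  simp [pv, k81, Fin.sum_univ_succ]
  ring

/-- the order of `q` modulo the primes of `q⁴ + 1` -/
theorem od_of_c8 {q r : ℕ} (hr : r.Prime) (h2 : r ≠ 2) (h : (r : ℤ) ∣ pv c8 (q : ℤ)) : od q r = 8 := by
  rw [pv_c8] at h
  have h8 : od q r ∣ 8 := by
    rw [od, ← CycTab.dvd_iff]
    exact h.trans ⟨(q : ℤ) ^ 4 - 1, by ring⟩
  have h4 : ¬ od q r ∣ 4 := by
    rw [od, ← CycTab.dvd_iff]
    intro h1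
    have h3 : (r : ℤ) ∣ 2 := by
      have := dvd_sub h h1
      ring_nf at this
      exact this
    exact h2 ((Nat.prime_dvd_prime_iff_eq hr Nat.prime_two).1 (by exact_mod_cast h3))
  have h5 : od q r ∣ 2 ^ 3 := h8
  obtain ⟨m, hm, h6⟩ := (Nat.dvd_prime_pow Nat.prime_two).1 h5
  rw [h6]
  have h7 : m = 3 := by
    by_contra hne
    apply h4
    rw [h6, show 4 = 2 ^ 2 by norm_num]
    exact pow_dvd_pow 2 (by omega)
  rw [h7]
  norm_num

section E

variable {K : Type u} [Field K] [Fintype K] {q : ℕ} (hq : IsPrimePow q) (hK : Fintype.card K = q ^ 2)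

include hq hK

/-- the primes not adjacent to 2 -/
theorem cls {r : ℕ} (hr : r.Prime) (hd : r ∣ Nat.card ↥(twistedE6 K q)) (hr2 : r ≠ 2)
    (hna : ¬ H94.PG.Adj ↥(twistedE6 K q) r 2) :
    r ≠ 3 ∧ ((r : ℤ) ∣ pv c18 (q : ℤ) ∨ (r : ℤ) ∣ pv c12 (q : ℤ) ∨ (2 ∣ q ∧ (r : ℤ) ∣ pv c8 (q : ℤ))) := by
  obtain ⟨p, n, hp, hn, hpn⟩ := id hq
  have hp := hp.nat_prime
  have hpq : p ∣ q := hpn ▸ dvd_pow_self p hn.ne'
  obtain ⟨h0, h1⟩ := cases_2E6 hq hK hp hpq hr hd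
  by_cases h2 : 2 ∣ q
  · have hp2 : p = 2 := by
      rw [← hpn] at h2
      exact ((Nat.prime_dvd_prime_iff_eq Nat.prime_two hp).1 (Nat.prime_two.dvd_of_dvd_pow h2)).symm
    rcases h1 with h1 | h1 | h1 | ⟨h3, h1⟩
    · exact absurd h1 hr2
    · exact absurd h1 hna
    · exact absurd hp2 h1.1
    · refine ⟨h3, ?_⟩
      rcases h1 with h1 | h1 | h1
      · exact Or.inr (Or.inr ⟨h2, h1⟩)
      · exact Or.inr (Or.inl h1)
      · exact Or.inl h1
  · have h3 : r ≠ 3 := by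
      rintro rfl
      exact hna (adj_three hq hK)
    refine ⟨h3, ?_⟩
    have hr3 := natCard_ne_of hq hK hr h3
    have h23 := natCard_ne_of hq hK Nat.prime_two (by norm_num)
    have hc1 := two_dvd_c1 h2
    have h1' : r ∣ q ^ 36 * (q ^ 2 - 1) * (q ^ 5 + 1) * (q ^ 6 - 1) * (q ^ 8 - 1) * (q ^ 9 + 1) * (q ^ 12 - 1) := by
      rw [← Cfsg.Agent.S1066.result hq hK]
      exact hd.mul_left _
    rcases cover hq.two_le hr h1' with (h | h | h | h | h | h | h) | h | h | h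
    · exfalso
      rw [← hpn] at h
      have h4 := (Nat.prime_dvd_prime_iff_eq hr hp).1 (hr.dvd_of_dvd_pow h)
      rw [← h4] at h0
      exact h0.elim hr2 hna
    · exact absurd ((pairE_gen hq hK chainA_ok hThA eigA_1 (by decide) eigA_1 (by decide) hr Nat.prime_two hr3 h23 h
        hc1).adj hr Nat.prime_two hr2) hna
    · exact absurd ((pairE_gen hq hK chainA_ok hThA eigA_2 (by decide) eigA_1 (by decide) hr Nat.prime_two hr3 h23 h
        hc1).adj hr Nat.prime_two hr2) hna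
    · exact absurd ((pairE_gen hq hK chainB_ok hThB eigB_3 (by decide) eigB_1 (by decide) hr Nat.prime_two hr3 h23 h
        hc1).adj hr Nat.prime_two hr2) hna
    · exact absurd ((pairE_gen hq hK chainC_ok hThC eigC_4 (by decide) eigC_1 (by decide) hr Nat.prime_two hr3 h23 h
        hc1).adj hr Nat.prime_two hr2) hna
    · exact absurd ((pairE_gen hq hK chainB_ok hThB eigB_6 (by decide) eigB_1 (by decide) hr Nat.prime_two hr3 h23 h
        hc1).adj hr Nat.prime_two hr2) hna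
    · exact absurd ((pairE_gen hq hK chainD_ok hThD eigD_10 (by decide) eigD_1 (by decide) hr Nat.prime_two hr3 h23 h
        hc1).adj hr Nat.prime_two hr2) hna
    · exact absurd ((pairE_gen hq hK chainE_ok hThE eigE_8 (by decide) eigE_1 (by decide) hr Nat.prime_two hr3 h23 h
        hc1).adj hr Nat.prime_two hr2) hna
    · exact Or.inr (Or.inl h)
    · exact Or.inl h

theorem ex18 : ∃ x : ↥(twistedE6 K q), orderOf x = T18 q := H366.Iso.e6t_order18 hq hK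

theorem ex12 : ∃ x : ↥(twistedE6 K q), orderOf x = T12 q := H366.Iso.e6t_orderC hq hK

theorem ex8 : ∃ x : ↥(twistedE6 K q), orderOf x = T8 q := by
  have h2 : 1 < q := hq.one_lt
  have h4 : 1 < q ^ 2 := Nat.one_lt_pow two_ne_zero h2
  refine H366.Iso.e6t_order hq hK chainE_ok hThE eig81 (by decide) (Nat.mul_pos (by positivity) (by omega))
    ((g_dvdS h2).mul_left _) ?_
  rw [pv81]
  push_cast [h4.le]
  exact dvd_rfl

theorem ex10 : ∃ x : ↥(twistedE6 K q), orderOf x = T10 q := by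
  have h2 : 1 < q := hq.one_lt
  obtain ⟨x, hx⟩ := H366.Iso.e6t_orderA hq hK
  have h3 : (q ^ 5 + 1) * (q - 1) = (q ^ 4 - q ^ 3 + q ^ 2 - q + 1) * (q ^ 2 - 1) := by
    have h4 : 1 ≤ q := h2.le
    have e : (((q ^ 5 + 1) * (q - 1) : ℕ) : ℤ) = (((q ^ 4 - q ^ 3 + q ^ 2 - q + 1) * (q ^ 2 - 1) : ℕ) : ℤ) := by
      rw [Nat.cast_mul, Nat.cast_mul, cast10 h2, castS h2, Nat.cast_sub h4]
      push_cast
      ring
    exact_mod_cast e
  have h5 : T10 q ∣ orderOf x := by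
    rw [hx, h3, Nat.mul_div_assoc _ (g_dvdS h2)]
    refine Dvd.dvd.mul_right ?_ _
    exact Nat.div_dvd_of_dvd (e_dvd10 h2)
  obtain ⟨y, -, hy⟩ := H371.exists_orderOf_of_dvd (isOfFinOrder_of_finite x) h5
  exact ⟨y, hy⟩

end E

/-- all the primes of the same class: the other factors of the order -/
theorem dvd_Pn {K : Type*} [Field K] [Fintype K] {u : ℕ} (hu : IsPrimePow u) (hK : Fintype.card K = u ^ 2) {B m : ℕ}
    (hm : m = 8 ∨ m = 12) (hall : AllOd u B m) (hB : B ∣ Nat.card ↥(twistedE6 K u)) : B ∣ Pn m u := by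
  have hu2 := hu.two_le
  have hB1 := hB.mul_left (Nat.gcd 3 (u + 1))
  rw [Cfsg.Agent.S1066.result hu hK] at hB1
  have hB' := (Int.natCast_dvd_natCast.2 hB1).mul_left (((u : ℤ) ^ 5 - 1) * ((u : ℤ) ^ 9 - 1))
  simp only [Nat.cast_mul, Nat.cast_pow, cast_pred (show 1 ≤ u by omega), Nat.cast_add, Nat.cast_one] at hB'
  rcases hm with rfl | rfl
  · exact fin_dvd hall 8 36 [2, 10, 6, 18, 12] (by decide) (by decide) (by omega) (by decide) hB'
      (by simp only [List.map_cons, List.map_nil, List.prod_cons, List.prod_nil]; ring)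
  · exact fin_dvd hall 12 36 [2, 10, 6, 18, 8] (by decide) (by decide) (by omega) (by decide) hB'
      (by simp only [List.map_cons, List.map_nil, List.prod_cons, List.prod_nil]; ring)

end Cfsg.Agent.H234.UF.TwE6

namespace Cfsg.Agent.H234.UF

open Cfsg Cfsg.Lie Cfsg.Agent.H493.PGTorus Cfsg.Agent.H493.PGCyc Cfsg.Agent.H378 Cfsg.Agent.H378.TwRows
open Cfsg.Agent.H77.E4Poly Cfsg.Agent.H945.UF Cfsg.Agent.H234.UF.TwE6

/-- **`²E₆(u)`** -/
theorem row_2E6 {K : Type*} [Field K] [Fintype K] {u : ℕ} (hu : IsPrimePow u) (hK : Fintype.card K = u ^ 2) {p q : ℕ}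
    (_hpF : (p : K) ≠ 0) (h : CandU p q ↥(Lie.twistedE6 K u)) : False := by
  have hu2 := hu.two_le
  have hM := h.mm_pos
  have h2M := h.two_mm
  have hM25 := h.mm_ge
  have hcls : ∀ r : ℕ, r.Prime → r ∣ mm q → r ≠ 3 ∧ ((r : ℤ) ∣ pv c18 (u : ℤ) ∨ (r : ℤ) ∣ pv c12 (u : ℤ) ∨
      (2 ∣ u ∧ (r : ℤ) ∣ pv c8 (u : ℤ))) := fun r hr hrM =>
    cls hu hK hr (h.dvd_card hrM) (h.prime_facts hr hrM).1 (h.not_adj hr hrM)
  have hcop : Nat.Coprime (mm q) (Nat.gcd 3 (u + 1)) :=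
    Nat.Coprime.coprime_dvd_right (Nat.gcd_dvd_left _ _)
      ((Nat.Prime.coprime_iff_not_dvd Nat.prime_three).2 h.not_three).symm
  by_cases h18' : ∃ r : ℕ, r.Prime ∧ r ∣ mm q ∧ (r : ℤ) ∣ pv c18 (u : ℤ)
  · -- the primes of `Φ₁₈`
    obtain ⟨r, hr, hrM, hr18⟩ := h18'
    have hod := od_of_c18 hr (hcls r hr hrM).1 hr18
    have hd : mm q ∣ u ^ 6 - u ^ 3 + 1 := h.dvd_of_cent hrM fun x hx => by
      have h5 := (cent_2E6 hu hK hr hx hod).2
      rwa [eval_cyc18, ← cast18 hu2, Int.natAbs_natCast] at h5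
    have hd' : mm q ∣ T18 u := by
      refine hcop.dvd_of_dvd_mul_left (dvd_trans hd (dvd_of_eq ?_))
      have e : ((Nat.gcd 3 (u + 1) * T18 u : ℕ) : ℤ) = ((u ^ 6 - u ^ 3 + 1 : ℕ) : ℤ) := by
        rw [Nat.cast_mul, h18 hu2, cast18 hu2]
      exact_mod_cast e.symm
    obtain ⟨a, i, ha, -, hao, ha1, -⟩ := h.tor (ex18 hu hK) hd'
    have hu3 : 3 ≤ u := by
      by_contra hlt
      have h2 : u = 2 := by omega
      have h3 : T18 u = 19 := by rw [h2]; decide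
      rw [h3] at hd'
      have := Nat.le_of_dvd (by norm_num) hd'
      omega
    exact fin18 hu3 h2M ha hao (h.triple (ex12 hu hK) (ex8 hu hK) (ex10 hu hK)
      (Nat.Coprime.coprime_dvd_right hd' (c_18_12 hu2).symm) (Nat.Coprime.coprime_dvd_right hd' (c_18_8 hu2).symm)
      (Nat.Coprime.coprime_dvd_right hd' (c_18_10 hu2).symm) (c_12_8 hu2) (c_12_10 hu2) (c_10_8 hu2).symm)
  have hcls' : ∀ r : ℕ, r.Prime → r ∣ mm q → (r : ℤ) ∣ pv c12 (u : ℤ) ∨ (2 ∣ u ∧ (r : ℤ) ∣ pv c8 (u : ℤ)) := by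
    intro r hr hrM
    rcases (hcls r hr hrM).2 with h1 | h1
    · exact absurd ⟨r, hr, hrM, h1⟩ h18'
    · exact h1
  by_cases h12' : ∃ r : ℕ, r.Prime ∧ r ∣ mm q ∧ (r : ℤ) ∣ pv c12 (u : ℤ)
  · -- the primes of `Φ₁₂`
    obtain ⟨r, hr, hrM, hr12⟩ := h12'
    have hall : AllOd u (mm q) 12 := by
      intro s hs hsM
      rcases hcls' s hs hsM with h1 | ⟨h2u, h1⟩
      · exact od_of_c12 hs h1
      · exfalso
        obtain ⟨g, hg⟩ := h.elt'
        have hgr : ∀ t : ℕ, t ∣ mm q → orderOf (g ^ (mm q / t)) = t := by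
          intro t ht
          have ht0 : 0 < t := Nat.pos_of_dvd_of_pos ht hM
          have h3 : mm q / t ≠ 0 := (Nat.div_pos (Nat.le_of_dvd hM ht) ht0).ne'
          rw [orderOf_pow_of_dvd h3 (by rw [hg]; exact Nat.div_dvd_of_dvd ht), hg,
            Nat.div_div_self ht hM.ne']
        have hs2 := (h.prime_facts hs hsM).1
        have hod8 := od_of_c8 hs hs2 h1
        have hod12 := od_of_c12 hr hr12
        have hm8 := H378.ExcNear.mod_of_od hs hod8 (by norm_num)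
        have hm12 := H378.ExcNear.mod_of_od hr hod12 (by norm_num)
        have hs8 : 7 < s := by
          have := hs.two_le
          have := Nat.le_of_dvd (by omega) hm8
          omega
        have hr8 : 7 < r := by
          have := hr.two_le
          have := Nat.le_of_dvd (by omega) hm12
          omega
        refine na_8_12 hu hK (v := 2) Nat.prime_two h2u (x := g ^ (mm q / s)) (y := g ^ (mm q / r))
          (by rw [hgr s hsM]; exact hs) (by rw [hgr r hrM]; exact hr) (by rw [hgr s hsM]; exact hs2)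
          (by rw [hgr s hsM]; exact hs8) (by rw [hgr r hrM]; exact hr8)
          (by rw [hgr s hsM, ← pv_c8]; exact h1) (by rw [hgr r hrM, ← pv_c12]; exact hr12)
          ((Commute.refl g).pow_pow _ _) ?_
        rintro ⟨w, hw, hwc⟩
        exact h.not_adj hs hsM ⟨hs, Nat.prime_two, hs2, g ^ (mm q / s), w, hgr s hsM, hw, hwc.symm⟩
    have hB : mm q ∣ Nat.card ↥(Lie.twistedE6 K u) := by
      obtain ⟨g, hg⟩ := h.elt'
      rw [← hg]
      exact orderOf_dvd_natCard g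
    have hd : mm q ∣ u ^ 4 - u ^ 2 + 1 := dvd_Pn hu hK (Or.inr rfl) hall hB
    have hd' : mm q ∣ T12 u := by
      refine hcop.dvd_of_dvd_mul_left (dvd_trans (hd.mul_left (u ^ 2 - u + 1)) (dvd_of_eq ?_))
      have e : ((Nat.gcd 3 (u + 1) * T12 u : ℕ) : ℤ) = (((u ^ 2 - u + 1) * (u ^ 4 - u ^ 2 + 1) : ℕ) : ℤ) := by
        rw [Nat.cast_mul, TwE6.h12 hu2, Nat.cast_mul, cast6 hu2, cast12 hu2]
      exact_mod_cast e.symm
    have hu3 : 3 ≤ u := by
      by_contra hlt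
      have h2 : u = 2 := by omega
      rw [h2] at hd
      have := Nat.le_of_dvd (by norm_num) hd
      omega
    exact fin12 hu3 h2M (Nat.le_of_dvd (by omega) hd) (h.triple (ex18 hu hK) (ex8 hu hK) (ex10 hu hK)
      (Nat.Coprime.coprime_dvd_right hd' (c_18_12 hu2)) (Nat.Coprime.coprime_dvd_right hd' (c_12_8 hu2).symm)
      (Nat.Coprime.coprime_dvd_right hd' (c_12_10 hu2).symm) (c_18_8 hu2) (c_18_10 hu2) (c_10_8 hu2).symm)
  · -- the primes of `Φ₈`, `u` even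
    have hcls8 : ∀ r : ℕ, r.Prime → r ∣ mm q → 2 ∣ u ∧ (r : ℤ) ∣ pv c8 (u : ℤ) := by
      intro r hr hrM
      rcases hcls' r hr hrM with h1 | h1
      · exact absurd ⟨r, hr, hrM, h1⟩ h12'
      · exact h1
    have hall : AllOd u (mm q) 8 := fun s hs hsM => od_of_c8 hs (h.prime_facts hs hsM).1 (hcls8 s hs hsM).2
    have hB : mm q ∣ Nat.card ↥(Lie.twistedE6 K u) := by
      obtain ⟨g, hg⟩ := h.elt'
      rw [← hg]
      exact orderOf_dvd_natCard g
    have hd : mm q ∣ u ^ 4 + 1 := dvd_Pn hu hK (Or.inl rfl) hall hB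
    have hd' : mm q ∣ T8 u := by
      refine hcop.dvd_of_dvd_mul_left (dvd_trans (hd.mul_right (u ^ 2 - 1)) (dvd_of_eq ?_))
      have e : ((Nat.gcd 3 (u + 1) * T8 u : ℕ) : ℤ) = (((u ^ 4 + 1) * (u ^ 2 - 1) : ℕ) : ℤ) := by
        rw [Nat.cast_mul, TwE6.h8 hu2, Nat.cast_mul, castS hu2]
        push_cast
        rfl
      exact_mod_cast e.symm
    have h2u : 2 ∣ u := by
      obtain ⟨r, hr, hrM⟩ := h.exists_prime
      exact (hcls8 r hr hrM).1
    have hu4 : 4 ≤ u := by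
      by_contra hlt
      have h2 : u = 2 := by omega
      rw [h2] at hd
      have := Nat.le_of_dvd (by norm_num) hd
      omega
    exact fin8 hu4 h2M (Nat.le_of_dvd (by omega) hd) (h.triple (ex18 hu hK) (ex12 hu hK) (ex10 hu hK)
      (Nat.Coprime.coprime_dvd_right hd' (c_18_8 hu2)) (Nat.Coprime.coprime_dvd_right hd' (c_12_8 hu2))
      (Nat.Coprime.coprime_dvd_right hd' (c_10_8 hu2)) (c_18_12 hu2) (c_18_10 hu2) (c_12_10 hu2))

end Cfsg.Agent.H234.UF
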